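/-
Monomial elements given by data, and the elements generating the centraliser of `om0` (of order three) in
the centraliser of the octad involution.

* `monoD t`, `vec_monoD`, `monoD_mul_eq_iff` (products compared through `comp2`)
* `om0`, `gen k : cen`, `fused k`, `gen_comm`, `om0_cube`
* `comm_om_iff` : a monomial element commutes with `om0` iff it passes `commTest`
-/
import Cfsg.Agent.Lib.Co1Centralizer.Group
import Cfsg.Agent.Lib.SuzSection.Data

set_option autoImplicit false
open Cfsg
open Cfsg.Agent.Leech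
open Cfsg.Agent.Co2Centralizer (oct inv0 inv0_smul xiEl xiFun vec_xiEl invFun0)

namespace Cfsg.Agent.SuzSection

/-- The validity of a monomial datum. -/
def okD (t : ℕ × ℕ × ℕ) : Bool :=
  Golay.isAut t.1 && Golay.isCode t.2.2 &&
    (List.range 24).all fun i => decide (Golay.fn t.2.1 i < 24) && Golay.fn t.1 (Golay.fn t.2.1 i) == i

theorem okD_iff {t : ℕ × ℕ × ℕ} : okD t = true ↔ Golay.isAut t.1 = true ∧ Golay.isCode t.2.2 = true ∧
    ∀ i < 24, Golay.fn t.2.1 i < 24 ∧ Golay.fn t.1 (Golay.fn t.2.1 i) = i := by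
  simp only [okD, Bool.and_eq_true, List.all_eq_true, List.mem_range, decide_eq_true_eq, beq_iff_eq,
    and_assoc]

/-- The monomial element of a datum. -/
noncomputable def monoD (t : ℕ × ℕ × ℕ) : Co0 :=
  if h : okD t = true then
    mono (Golay.toPerm t.1) (Golay.toPerm_mem_M24 (okD_iff.1 h).1) (Golay.pts t.2.2)
      ((Golay.pts_mem_supports_iff (Golay.lt_of_isCode (okD_iff.1 h).2.1)).2 (okD_iff.1 h).2.1)
  else 1

/-- The sign of a mask at an index. -/
def sgn (m i : ℕ) : ℤ := if m.testBit i then -1 else 1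

/-- The coordinates of a monomial element. -/
def monoF (t : ℕ × ℕ × ℕ) (x : GolayPt → ℤ) : GolayPt → ℤ := fun i =>
  sgn t.2.2 (Golay.idx i) * x (Golay.pt (Golay.fn t.2.1 (Golay.idx i)))

theorem symm_toPerm {t : ℕ × ℕ × ℕ} (h : okD t = true) (i : GolayPt) :
    (Golay.toPerm t.1).symm i = Golay.pt (Golay.fn t.2.1 (Golay.idx i)) := by
  have hi := (okD_iff.1 h).2.2 _ (Golay.idx_lt i)
  rw [Equiv.symm_apply_eq, Golay.toPerm_pt (Golay.validPerm_of_isAut (okD_iff.1 h).1) hi.1, hi.2, Golay.pt_idx]

theorem vec_monoD {t : ℕ × ℕ × ℕ} (h : okD t = true) (v : leechLattice) :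
    ((monoD t • v : leechLattice) : GolayPt → ℤ) = monoF t v := by
  rw [monoD, dif_pos h, vec_mono]
  funext i
  simp only [signedPerm, symm_toPerm h, monoF, Golay.mem_pts, sgn]
  split_ifs <;> ring

/-- The source and sign of each coordinate of a product of two monomial maps. -/
def comp2 (a b : ℕ × ℕ × ℕ) : List (ℕ × Bool) :=
  (List.range 24).map fun i =>
    (Golay.fn b.2.1 (Golay.fn a.2.1 i), xor (a.2.2.testBit i) (b.2.2.testBit (Golay.fn a.2.1 i)))

/-- The coordinates read off from a source and a sign. -/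
def readAt (p : ℕ × Bool) (x : GolayPt → ℤ) : ℤ := if p.2 then -x (Golay.pt p.1) else x (Golay.pt p.1)

theorem monoF_monoF {a : ℕ × ℕ × ℕ} (ha : okD a = true) (b : ℕ × ℕ × ℕ) (x : GolayPt → ℤ) (i : GolayPt) :
    monoF a (monoF b x) i = readAt ((comp2 a b).getD (Golay.idx i) (0, false)) x := by
  have h := ((okD_iff.1 ha).2.2 _ (Golay.idx_lt i)).1
  rw [comp2, List.getD_eq_getElem?_getD, List.getElem?_map, List.getElem?_range (Golay.idx_lt i)]
  simp only [Option.map_some, Option.getD_some, monoF, readAt, sgn, Golay.idx_pt h]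
  cases a.2.2.testBit (Golay.idx i) <;> cases b.2.2.testBit (Golay.fn a.2.1 (Golay.idx i)) <;> simp

theorem monoD_mul_eq_iff {a b c d : ℕ × ℕ × ℕ} (ha : okD a = true) (hb : okD b = true)
    (hc : okD c = true) (hd : okD d = true) :
    monoD a * monoD b = monoD c * monoD d ↔ comp2 a b = comp2 c d := by
  constructor
  · intro h
    refine List.ext_getElem (by simp [comp2]) fun n h1 h2 => ?_
    have hn : n < 24 := by simpa [comp2] using h1
    have key : ∀ j : GolayPt, readAt ((comp2 a b).getD n (0, false)) (Pi.single j 8) =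
        readAt ((comp2 c d).getD n (0, false)) (Pi.single j 8) := fun j => by
      have e := congrArg (fun g : Co0 => ((g • eightVec j : leechLattice) : GolayPt → ℤ) (Golay.pt n)) h
      simp only [mul_smul, vec_monoD ha, vec_monoD hb, vec_monoD hc, vec_monoD hd, coe_eightVec] at e
      rwa [monoF_monoF ha, monoF_monoF hc, Golay.idx_pt hn] at e
    rw [List.getD_eq_getElem _ _ h1, List.getD_eq_getElem _ _ h2] at key
    have hp : (comp2 a b)[n].1 < 24 := by
      simp only [comp2, List.getElem_map, List.getElem_range]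
      exact ((okD_iff.1 hb).2.2 _ ((okD_iff.1 ha).2.2 _ hn).1).1
    have hq : (comp2 c d)[n].1 < 24 := by
      simp only [comp2, List.getElem_map, List.getElem_range]
      exact ((okD_iff.1 hd).2.2 _ ((okD_iff.1 hc).2.2 _ hn).1).1
    generalize (comp2 a b)[n] = p at key hp ⊢
    generalize (comp2 c d)[n] = q at key hq ⊢
    obtain ⟨p, s⟩ := p
    obtain ⟨q, t⟩ := q
    have k1 := key (Golay.pt p)
    have hpq : q = p := by
      by_contra hne
      have hne' : Golay.pt q ≠ Golay.pt p := fun e => hne (by
        simpa [Golay.idx_pt hp, Golay.idx_pt hq] using congrArg Golay.idx e)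
      cases s <;> cases t <;> simp [readAt, Pi.single_eq_of_ne hne'] at k1
    subst hpq
    cases s <;> cases t <;> simp [readAt] at k1 ⊢
  · intro h
    refine ext_frame fun j => Subtype.ext (funext fun i => ?_)
    simp only [mul_smul, vec_monoD ha, vec_monoD hb, vec_monoD hc, vec_monoD hd]
    rw [monoF_monoF ha, monoF_monoF hc, h]

/-! ### The elements -/

/-- The `k`-th monomial datum. -/
def md (k : ℕ) : ℕ × ℕ × ℕ := monoData.getD k (0, 0, 0)

theorem md_ok_fin : ∀ k : Fin 6, okD (md k.val) = true := by decide +kernel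

theorem md_ok {k : ℕ} (h : k < 6) : okD (md k) = true := md_ok_fin ⟨k, h⟩

/-- The element of order three. -/
noncomputable def om0 : Co0 := monoD (md 0) * xiEl

/-- Its coordinate function. -/
def omF (x : GolayPt → ℤ) : GolayPt → ℤ := monoF (md 0) (xiFun x)

theorem vec_om0 (v : leechLattice) : ((om0 • v : leechLattice) : GolayPt → ℤ) = omF v := by
  rw [om0, mul_smul, vec_monoD (md_ok (k := 0) (by norm_num)), vec_xiEl]
  rfl

/-- The three generators in Co0. -/
noncomputable def gen0 (k : Fin 3) : Co0 :=
  if k = 0 then om0 else if k = 1 then monoD (md 1) * xiEl * monoD (md 2) else monoD (md 3)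

/-- Their coordinate functions. -/
def genF (k : Fin 3) (x : GolayPt → ℤ) : GolayPt → ℤ :=
  if k = 0 then omF x else if k = 1 then monoF (md 1) (xiFun (monoF (md 2) x)) else monoF (md 3) x

theorem vec_gen0 (k : Fin 3) (v : leechLattice) :
    ((gen0 k • v : leechLattice) : GolayPt → ℤ) = genF k v := by
  unfold gen0 genF
  split_ifs
  · exact vec_om0 v
  · rw [mul_smul, mul_smul, vec_monoD (md_ok (k := 1) (by norm_num)), vec_xiEl, vec_monoD (md_ok (k := 2) (by norm_num))]
  · exact vec_monoD (md_ok (k := 3) (by norm_num)) v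

/-- The two monomial elements moving the octad. -/
noncomputable def fused (k : Fin 2) : Co0 := monoD (md (4 + k.val))

theorem vec_fused (k : Fin 2) (v : leechLattice) :
    ((fused k • v : leechLattice) : GolayPt → ℤ) = monoF (md (4 + k.val)) v :=
  vec_monoD (md_ok (k := 4 + k.val) (by omega)) v

theorem om_check : ∀ j i : GolayPt, omF (omF (monoF (md 0) (Pi.single j 8))) i = xiFun (Pi.single j 8) i := by
  decide +kernel

theorem om0_cube : om0 * om0 * om0 = 1 := by
  have h : om0 * om0 * monoD (md 0) = xiEl := ext_frame fun j => Subtype.ext (funext fun i => by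
    simp only [mul_smul, vec_om0, vec_monoD (md_ok (k := 0) (by norm_num)), vec_xiEl, coe_eightVec]
    exact om_check j i)
  have hxi : xiEl * xiEl = 1 := co0_ext fun v => Subtype.ext (by
    rw [mul_smul, vec_xiEl, vec_xiEl, Co2Centralizer.xiFun_xiFun v.2, one_smul])
  calc om0 * om0 * om0 = om0 * om0 * monoD (md 0) * xiEl := by rw [om0]; group
    _ = 1 := by rw [h, hxi]

theorem gen_om_check : ∀ (k : Fin 3) (j i : GolayPt),
    genF k (omF (Pi.single j 8)) i = omF (genF k (Pi.single j 8)) i := by decide +kernel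

theorem gen_comm (k : Fin 3) : gen0 k * om0 = om0 * gen0 k :=
  ext_frame fun j => Subtype.ext (funext fun i => by
    simp only [mul_smul, vec_om0, vec_gen0, coe_eightVec]
    exact gen_om_check k j i)

theorem gen_inv_check : ∀ (k : Fin 3) (j i : GolayPt),
    genF k (invFun0 (Pi.single j 8)) i = invFun0 (genF k (Pi.single j 8)) i := by decide +kernel

theorem vec_inv0 (v : leechLattice) : ((inv0 • v : leechLattice) : GolayPt → ℤ) = invFun0 v :=
  funext fun i => inv0_smul v i

theorem gen0_mem (k : Fin 3) : gen0 k ∈ Co1Centralizer.cen :=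
  Co1Centralizer.mem_cen.2 (ext_frame fun j => Subtype.ext (funext fun i => by
    simp only [mul_smul, vec_inv0, vec_gen0, coe_eightVec]
    exact gen_inv_check k j i))

/-- The three generators. -/
noncomputable def gen (k : Fin 3) : Co1Centralizer.cen := ⟨gen0 k, gen0_mem k⟩

theorem gen_zero_coe : ((gen 0 : Co1Centralizer.cen) : Co0) = om0 := by
  show gen0 0 = om0
  rw [gen0, if_pos rfl]

theorem om0_mem : om0 ∈ Co1Centralizer.cen := gen_zero_coe ▸ (gen 0).2

theorem om0_inv0 : om0 * inv0 = inv0 * om0 := Co1Centralizer.mem_cen.1 om0_mem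

/-! ### Monomial elements commuting with `om0` -/

/-- An entry of twice the element of order three. -/
def entry (i j : ℕ) : ℤ :=
  if ((wTable.getD i (0, 0)).1).testBit j then 1 else if ((wTable.getD i (0, 0)).2).testBit j then -1 else 0

theorem omF_single : ∀ j i : GolayPt, omF (Pi.single j 8) i = 4 * entry (Golay.idx i) (Golay.idx j) ∧
    omF (Pi.single j (-8)) i = -4 * entry (Golay.idx i) (Golay.idx j) := by decide +kernel

/-- The test for commuting with `om0`. -/
def commTest (t : ℕ × ℕ × ℕ) : Bool :=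
  (List.range 24).all fun i => (List.range 24).all fun j =>
    sgn t.2.2 i * entry (Golay.fn t.2.1 i) j == entry i (Golay.fn t.1 j) * sgn t.2.2 (Golay.fn t.1 j)

theorem monoF_single {t : ℕ × ℕ × ℕ} (h : okD t = true) (j : GolayPt) (c : ℤ) :
    monoF t (Pi.single j c) = Pi.single (Golay.toPerm t.1 j) (sgn t.2.2 (Golay.idx (Golay.toPerm t.1 j)) * c) := by
  funext i
  simp only [monoF, ← symm_toPerm h, Pi.single_apply, Equiv.symm_apply_eq]
  split_ifs with hi
  · rw [hi]
  · rw [mul_zero]

theorem comm_om_iff {t : ℕ × ℕ × ℕ} (h : okD t = true) :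
    monoD t * om0 = om0 * monoD t ↔ commTest t = true := by
  have hv := Golay.validPerm_of_isAut (okD_iff.1 h).1
  have key : ∀ j i : GolayPt,
      (((monoD t * om0) • eightVec j : leechLattice) : GolayPt → ℤ) i =
        4 * (sgn t.2.2 (Golay.idx i) * entry (Golay.fn t.2.1 (Golay.idx i)) (Golay.idx j)) ∧
      (((om0 * monoD t) • eightVec j : leechLattice) : GolayPt → ℤ) i =
        4 * (entry (Golay.idx i) (Golay.fn t.1 (Golay.idx j)) * sgn t.2.2 (Golay.fn t.1 (Golay.idx j))) := by
    intro j i
    constructor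
    · rw [mul_smul, vec_monoD h, vec_om0, coe_eightVec]
      simp only [monoF, (omF_single _ _).1, Golay.idx_pt ((okD_iff.1 h).2.2 _ (Golay.idx_lt i)).1]
      ring
    · rw [mul_smul, vec_om0, vec_monoD h, coe_eightVec, monoF_single h, Golay.idx_toPerm hv]
      unfold sgn
      split_ifs
      · rw [neg_one_mul, (omF_single _ _).2, Golay.idx_toPerm hv]; ring
      · rw [one_mul, (omF_single _ _).1, Golay.idx_toPerm hv]; ring
  simp only [commTest, List.all_eq_true, List.mem_range, beq_iff_eq]
  constructor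
  · intro e i hi j hj
    have h1 := (key (Golay.pt j) (Golay.pt i)).1
    rw [e, (key _ _).2, Golay.idx_pt hi, Golay.idx_pt hj] at h1
    omega
  · intro e
    refine ext_frame fun j => Subtype.ext (funext fun i => ?_)
    rw [(key j i).1, (key j i).2, e _ (Golay.idx_lt i) _ (Golay.idx_lt j)]

theorem fused_comm (k : Fin 2) : fused k * om0 = om0 * fused k :=
  (comm_om_iff (md_ok (k := 4 + k.val) (by omega))).2
    ((by decide +kernel : ∀ k : Fin 2, commTest (md (4 + k.val)) = true) k)

end Cfsg.Agent.SuzSection
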