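/-
The group `QS` of order 128 of kernel elements commuting with `om0`, and its six coordinates.

* `qEl n`, `mem_QS_iff`, `QS_le`, `natCard_QS`, `isExtraspecial_QS`
* `c6 g` : commutator bits with the basis; `c6_mul`, `c6_eq_zero`, `c6_surj`, `sq_QS`
-/
import Cfsg.Agent.Lib.Co1Centralizer.Main
import Cfsg.Agent.Lib.SuzSection.Mono

set_option autoImplicit false
open scoped commutatorElement
open Cfsg
open Cfsg.Agent.Leech
open Cfsg.Agent.Co2Centralizer (oct inv0 inv0_smul kerMono kerEl avoid invEl cent invFun0)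

namespace Cfsg.Agent.SuzSection

/-- The `n`-th datum. -/
def qd (n : Fin 128) : ℕ × ℕ × ℕ := qData.getD n.val (0, 0, 0)

/-- The `n`-th element. -/
noncomputable def qEl (n : Fin 128) : Co0 := monoD (qd n)

theorem qd_check : ∀ n : Fin 128, (Golay.transTable.getD 6 []).contains (qd n).1 = true ∧
    (qd n).2.1 = (qd n).1 ∧ okD (qd n) = true ∧ (qd n).2.2 &&& Golay.octad0 = 0 ∧
    commTest (qd n) = true := by decide +kernel

theorem qd_ok (n : Fin 128) : okD (qd n) = true := (qd_check n).2.2.1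

theorem qEl_comm (n : Fin 128) : qEl n * om0 = om0 * qEl n :=
  (comm_om_iff (qd_ok n)).2 (qd_check n).2.2.2.2

/-- The subgroup. -/
noncomputable def QS : Subgroup Co0 :=
  Co2Centralizer.phi.ker.map cent.subtype ⊓ Subgroup.centralizer {om0}

theorem exists_kerMono (n : Fin 128) : ∃ σ c, qEl n = kerMono σ c := by
  obtain ⟨hd, -, hok, h0, -⟩ := qd_check n
  have hc := (okD_iff.1 hok).2.1
  refine ⟨⟨_, Co2Centralizer.code_perm_mem (List.contains_iff_mem.1 hd)⟩, ⟨Golay.pts (qd n).2.2,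
    (Golay.pts_mem_supports_iff (Golay.lt_of_isCode hc)).2 hc, ?_⟩, ?_⟩
  · rw [Finset.disjoint_iff_inter_eq_empty, oct, ← Golay.pts_and, h0, Golay.pts_zero]
  · rw [qEl, monoD, dif_pos hok]
    rfl

theorem qEl_mem (n : Fin 128) : qEl n ∈ QS := by
  refine Subgroup.mem_inf.2 ⟨?_, Subgroup.mem_centralizer_singleton_iff.2 (qEl_comm n)⟩
  obtain ⟨σ, c, h⟩ := exists_kerMono n
  exact h ▸ ⟨kerEl σ c, Co2Centralizer.kerEl_mem_ker σ c, rfl⟩

theorem span_check : (Golay.transTable.getD 6 []).all (fun d =>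
    Golay.allSpan (fun m => (m &&& Golay.octad0 != 0) ||
      (!commTest (d, d, m) || qData.contains (d, d, m))) Golay.rows 0) = true := by
  decide +kernel

theorem trans_inv : ∀ d ∈ Golay.transTable.getD 6 [], ∀ i < 24,
    Golay.fn d i < 24 ∧ Golay.fn d (Golay.fn d i) = i := by decide +kernel

theorem exists_qEl {σ : Golay.octadFix oct} {c : avoid} (h : kerMono σ c * om0 = om0 * kerMono σ c) :
    ∃ n, qEl n = kerMono σ c := by
  obtain ⟨σ, hσ⟩ := σ
  obtain ⟨c, hc⟩ := c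
  obtain ⟨d, hd, ha, rfl⟩ := Co2Centralizer.exists_code_perm hσ
  obtain ⟨x, -, rfl, h0⟩ := Co2Centralizer.exists_mask hc
  have h1 := Golay.allSpan_rows (List.all_eq_true.1 span_check d hd) x
  simp only [h0, bne_self_eq_false, Bool.false_or, Bool.or_eq_true,
    Bool.not_eq_true', List.contains_iff_mem] at h1
  have hok : okD (d, d, Golay.enc x) = true := okD_iff.2 ⟨ha,
    Golay.isCode_enc x, trans_inv d hd⟩
  have e : monoD (d, d, Golay.enc x) = kerMono ⟨_, hσ⟩ ⟨_, hc⟩ := by rw [monoD, dif_pos hok]; rfl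
  rw [← e, comm_om_iff hok] at h
  have hm : (d, d, Golay.enc x) ∈ qData := h1.resolve_left (by rw [h]; simp)
  obtain ⟨n, hn, hget⟩ := List.getElem_of_mem hm
  have h128 : qData.length = 128 := rfl
  refine ⟨⟨n, h128 ▸ hn⟩, ?_⟩
  rw [qEl, qd, List.getD_eq_getElem _ _ hn, hget, e]

theorem mem_QS_iff {g : Co0} : g ∈ QS ↔ ∃ n, qEl n = g := by
  refine ⟨fun h => ?_, fun ⟨n, hn⟩ => hn ▸ qEl_mem n⟩
  obtain ⟨⟨k, hk, rfl⟩, h2⟩ := Subgroup.mem_inf.1 h
  obtain ⟨σ, c, rfl⟩ := Co2Centralizer.exists_of_mem_ker hk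
  exact exists_qEl (Subgroup.mem_centralizer_singleton_iff.1 h2)

theorem QS_le : QS ≤ Co1Centralizer.cen := by
  rintro g hg
  obtain ⟨⟨k, -, rfl⟩, -⟩ := Subgroup.mem_inf.1 hg
  exact Co1Centralizer.cent_le k.2

theorem comm_om_of_mem {g : Co0} (hg : g ∈ QS) : g * om0 = om0 * g :=
  Subgroup.mem_centralizer_singleton_iff.1 (Subgroup.mem_inf.1 hg).2

theorem comm_inv_of_mem {g : Co0} (hg : g ∈ QS) : g * inv0 = inv0 * g :=
  Co1Centralizer.mem_cen.1 (QS_le hg)

theorem qEl_one : qEl ⟨qOne, by decide⟩ = 1 :=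
  ext_frame fun j => Subtype.ext (funext fun i => by
    rw [qEl, vec_monoD (qd_ok _), one_smul, coe_eightVec]
    exact (by decide +kernel : ∀ j i : GolayPt,
      monoF (qd ⟨qOne, by decide⟩) (Pi.single j 8) i = (Pi.single j 8 : GolayPt → ℤ) i) j i)

theorem qEl_inv : qEl ⟨qInv, by decide⟩ = inv0 :=
  ext_frame fun j => Subtype.ext (funext fun i => by
    rw [qEl, vec_monoD (qd_ok _), vec_inv0, coe_eightVec]
    exact (by decide +kernel : ∀ j i : GolayPt,
      monoF (qd ⟨qInv, by decide⟩) (Pi.single j 8) i = invFun0 (Pi.single j 8) i) j i)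

theorem inv0_mem_QS : inv0 ∈ QS := qEl_inv ▸ qEl_mem _

theorem inv0_ne_one : inv0 ≠ 1 := fun h => by
  have h2 := Co1Centralizer.orderOf_z1
  rw [Co1Centralizer.z1, h, QuotientGroup.mk_one, orderOf_one] at h2
  norm_num at h2

theorem mul_cases {a b : Co0} (ha : a ∈ QS) (hb : b ∈ QS) : a * b = b * a ∨ a * b = inv0 * (b * a) := by
  obtain ⟨⟨k, hk, rfl⟩, -⟩ := Subgroup.mem_inf.1 ha
  obtain ⟨⟨l, hl, rfl⟩, -⟩ := Subgroup.mem_inf.1 hb
  exact (Co1Centralizer.commutator_cases hk hl).imp (congrArg Subtype.val) (congrArg Subtype.val)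

/-! ### The coordinates -/

open Classical in
/-- The commutator bit. -/
noncomputable def com (a b : Co0) : ZMod 2 := if a * b = b * a then 0 else 1

/-- A power of the involution indexed by a bit. -/
def pw (e : ZMod 2) : Co0 := if e = 0 then 1 else inv0

theorem pw_zero : pw 0 = 1 := if_pos rfl

theorem pw_one : pw 1 = inv0 := if_neg one_ne_zero

theorem pw_add (e f : ZMod 2) : pw (e + f) = pw e * pw f := by
  have h : ∀ c : ZMod 2, c = 0 ∨ c = 1 := by decide
  rcases h e with rfl | rfl <;> rcases h f with rfl | rfl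
  · rw [add_zero, pw_zero, one_mul]
  · rw [zero_add, pw_zero, one_mul]
  · rw [add_zero, pw_zero, mul_one]
  · rw [show (1 : ZMod 2) + 1 = 0 from rfl, pw_one, pw_zero, Co1Centralizer.inv0_mul_self]

theorem pw_comm {a : Co0} (ha : a * inv0 = inv0 * a) (e : ZMod 2) : a * pw e = pw e * a := by
  unfold pw
  split_ifs
  · rw [mul_one, one_mul]
  · exact ha

theorem com_spec {a b : Co0} (ha : a ∈ QS) (hb : b ∈ QS) : a * b = pw (com a b) * (b * a) := by
  unfold com
  split_ifs with h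
  · rw [pw_zero, one_mul, h]
  · rw [pw_one]; exact (mul_cases ha hb).resolve_left h

theorem com_unique {a b : Co0} {e : ZMod 2} (h : a * b = pw e * (b * a)) : com a b = e := by
  rcases (by decide : ∀ c : ZMod 2, c = 0 ∨ c = 1) e with rfl | rfl
  · rw [pw_zero, one_mul] at h; exact if_pos h
  · rw [pw_one] at h
    refine if_neg fun h' => inv0_ne_one ?_
    rw [h'] at h
    exact mul_eq_right.1 h.symm

theorem com_mul {a b x : Co0} (ha : a ∈ QS) (hb : b ∈ QS) (hx : x ∈ QS) :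
    com (a * b) x = com a x + com b x := by
  refine com_unique ?_
  rw [mul_assoc, com_spec hb hx, ← mul_assoc, pw_comm (comm_inv_of_mem ha), mul_assoc, ← mul_assoc a x b,
    com_spec ha hx, ← mul_assoc, ← mul_assoc, ← pw_add, add_comm]
  group

theorem com_of_comm {a b : Co0} (h : a * b = b * a) : com a b = 0 := if_pos h

/-- The six coordinate indices. -/
abbrev I6 : Type := (Fin 2 ⊕ Fin 2) ⊕ Fin 2

/-- The coordinate space. -/
abbrev V6 : Type := I6 → ZMod 2

/-- The index of a coordinate. -/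
def idx6 : I6 → ℕ
  | Sum.inl (Sum.inl i) => i.val
  | Sum.inl (Sum.inr i) => 2 + i.val
  | Sum.inr i => 4 + i.val

/-- The partner of a coordinate. -/
def dual6 : I6 → I6
  | Sum.inl (Sum.inl i) => Sum.inl (Sum.inr i)
  | Sum.inl (Sum.inr i) => Sum.inl (Sum.inl i)
  | Sum.inr i => Sum.inr (1 - i)

/-- The position of the `k`-th basis element. -/
def bIdx (k : I6) : Fin 128 := Fin.ofNat 128 (qBasis.getD (idx6 k) 0)

/-- The coordinates. -/
noncomputable def c6 (g : Co0) : V6 := fun k => com g (qEl (bIdx (dual6 k)))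

theorem c6_mul {a b : Co0} (ha : a ∈ QS) (hb : b ∈ QS) : c6 (a * b) = c6 a + c6 b :=
  funext fun _ => com_mul ha hb (qEl_mem _)

theorem c6_one : c6 1 = 0 := funext fun k => com_of_comm (by rw [one_mul, mul_one])

theorem c6_inv0 : c6 inv0 = 0 := funext fun k => com_of_comm (comm_inv_of_mem (qEl_mem _)).symm

/-- The coordinates as computed. -/
def c6d (n : Fin 128) : V6 := fun k =>
  if comp2 (qd n) (qd (bIdx (dual6 k))) = comp2 (qd (bIdx (dual6 k))) (qd n) then 0 else 1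

theorem c6_qEl (n : Fin 128) : c6 (qEl n) = c6d n := by
  funext k
  have h := monoD_mul_eq_iff (qd_ok n) (qd_ok (bIdx (dual6 k))) (qd_ok (bIdx (dual6 k))) (qd_ok n)
  show com (monoD (qd n)) (monoD (qd (bIdx (dual6 k)))) = _
  unfold com c6d
  by_cases e : comp2 (qd n) (qd (bIdx (dual6 k))) = comp2 (qd (bIdx (dual6 k))) (qd n)
  · rw [if_pos (h.2 e), if_pos e]
  · rw [if_neg (fun e' => e (h.1 e')), if_neg e]

theorem c6d_zero : ∀ n : Fin 128, c6d n = 0 → n.val = qOne ∨ n.val = qInv := by decide +kernel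

theorem c6_eq_zero {g : Co0} (hg : g ∈ QS) (h : c6 g = 0) : g = 1 ∨ g = inv0 := by
  obtain ⟨n, rfl⟩ := mem_QS_iff.1 hg
  rw [c6_qEl] at h
  rcases c6d_zero n h with h1 | h1
  · exact Or.inl (by rw [← qEl_one]; exact congrArg qEl (Fin.ext h1))
  · exact Or.inr (by rw [← qEl_inv]; exact congrArg qEl (Fin.ext h1))

theorem c6_basis : ∀ j : I6, c6d (bIdx j) = Pi.single j 1 := by decide +kernel

theorem c6_surj (v : V6) : ∃ g ∈ QS, c6 g = v := by
  rw [← Finset.univ_sum_single v]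
  refine Finset.sum_induction _ (fun w => ∃ g ∈ QS, c6 g = w) ?_ ⟨1, one_mem _, c6_one⟩ fun j _ => ?_
  · rintro _ _ ⟨a, ha, rfl⟩ ⟨b, hb, rfl⟩
    exact ⟨a * b, mul_mem ha hb, c6_mul ha hb⟩
  · rcases (by decide : ∀ c : ZMod 2, c = 0 ∨ c = 1) (v j) with h | h
    · exact ⟨1, one_mem _, by rw [c6_one, h, Pi.single_zero]⟩
    · exact ⟨qEl (bIdx j), qEl_mem _, by rw [c6_qEl, c6_basis, h]⟩

theorem sq_check : ∀ n : Fin 128, comp2 (qd n) (qd n) =
    if quadFormMinus 2 (ZMod 2) 1 1 (c6d n) = 0 then comp2 (qd ⟨qOne, by decide⟩) (qd ⟨qOne, by decide⟩)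
    else comp2 (qd ⟨qInv, by decide⟩) (qd ⟨qOne, by decide⟩) := by decide +kernel

theorem sq_QS {g : Co0} (hg : g ∈ QS) : g * g = pw (quadFormMinus 2 (ZMod 2) 1 1 (c6 g)) := by
  obtain ⟨n, rfl⟩ := mem_QS_iff.1 hg
  rw [c6_qEl]
  have h := sq_check n
  unfold pw
  split_ifs at h ⊢ with h0
  · have h1 := (monoD_mul_eq_iff (qd_ok n) (qd_ok n) (qd_ok ⟨qOne, by decide⟩) (qd_ok ⟨qOne, by decide⟩)).2 h
    calc qEl n * qEl n = qEl ⟨qOne, by decide⟩ * qEl ⟨qOne, by decide⟩ := h1
      _ = 1 := by rw [qEl_one, one_mul]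
  · have h1 := (monoD_mul_eq_iff (qd_ok n) (qd_ok n) (qd_ok ⟨qInv, by decide⟩) (qd_ok ⟨qOne, by decide⟩)).2 h
    calc qEl n * qEl n = qEl ⟨qInv, by decide⟩ * qEl ⟨qOne, by decide⟩ := h1
      _ = inv0 := by rw [qEl_inv, qEl_one, mul_one]

/-! ### The order and the extraspecial structure -/

theorem qd_distinct : ((List.finRange 128).map fun n => comp2 (qd n) (qd ⟨qOne, by decide⟩)).Nodup := by
  decide +kernel

theorem qEl_injective : Function.Injective qEl := fun n m h => by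
  have h1 : qEl n * qEl ⟨qOne, by decide⟩ = qEl m * qEl ⟨qOne, by decide⟩ := by rw [h]
  have h2 := (monoD_mul_eq_iff (qd_ok n) (qd_ok _) (qd_ok m) (qd_ok _)).1 h1
  exact List.inj_on_of_nodup_map qd_distinct (List.mem_finRange n) (List.mem_finRange m) h2

theorem natCard_QS : Nat.card QS = 2 ^ 7 := by
  have h : (QS : Set Co0) = Set.range qEl := Set.ext fun g => by
    rw [SetLike.mem_coe, mem_QS_iff, Set.mem_range]
  rw [← SetLike.coe_sort_coe, h, Nat.card_range_of_injective qEl_injective, Nat.card_eq_fintype_card,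
    Fintype.card_fin]
  norm_num

theorem isExtraspecial_QS : Cfsg.IsExtraspecial 2 ↥QS := by
  haveI : Fact (Nat.Prime 2) := ⟨Nat.prime_two⟩
  refine (LargeExtraspecial.isExtraspecial_of_gen (z := inv0) (IsPGroup.of_card natCard_QS) inv0_mem_QS
    inv0_ne_one (fun q hq => comm_inv_of_mem hq) ?_ ?_ ?_ ?_).1
  · intro x hx h
    exact c6_eq_zero hx (funext fun k => com_of_comm (h _ (qEl_mem _)).symm)
  · intro a ha b hb
    rw [commutatorElement_def]
    rcases mul_cases ha hb with h | h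
    · left; rw [h]; group
    · right; rw [h]; group
  · intro a ha
    rw [sq_QS ha]
    unfold pw
    split_ifs
    · exact Or.inl rfl
    · exact Or.inr rfl
  · obtain ⟨j⟩ : Nonempty I6 := inferInstance
    refine ⟨qEl (bIdx j), qEl_mem _, qEl (bIdx (dual6 j)), qEl_mem _, fun h => ?_⟩
    have h1 : c6 (qEl (bIdx j)) j = 0 := com_of_comm (commutatorElement_eq_one_iff_mul_comm.1 h)
    rw [c6_qEl, c6_basis, Pi.single_eq_same] at h1
    exact one_ne_zero h1

end Cfsg.Agent.SuzSection
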