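/-
The action `theta` of `CH` on the six coordinates of `QS`.

* `theta`, `theta_c6`, `range_theta` (`= Ω⁻(6, 2)`), `mem_ker_theta`
-/
import Cfsg.Agent.Lib.SuzSection.Eight
import Cfsg.Agent.S0288

set_option autoImplicit false
open Cfsg
open Cfsg.Agent.Leech
open Cfsg.Agent.Co2Centralizer (inv0)
open Cfsg.Agent.Co1Centralizer (cen phi negEl)
open scoped Matrix

namespace Cfsg.Agent.SuzSection

/-- The subgroup to be factored out. -/
noncomputable def AZ : Subgroup Co0 := Subgroup.zpowers om0 ⊔ Subgroup.center Co0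

theorem negOne_mem_AZ : negOne ∈ AZ := Subgroup.mem_sup_right negOne_mem_center

theorem AZ_comm {g : Co0} (hg : g * om0 = om0 * g) {a : Co0} (ha : a ∈ AZ) : g * a = a * g := by
  have h : AZ ≤ Subgroup.centralizer {g} := sup_le
    (Subgroup.zpowers_le.2 (Subgroup.mem_centralizer_singleton_iff.2 hg.symm))
    fun z hz => Subgroup.mem_centralizer_singleton_iff.2 (Subgroup.mem_center_iff.1 hz g).symm
  exact (Subgroup.mem_centralizer_singleton_iff.1 (h ha)).symm

theorem negEl_mem_CH : negEl ∈ CH :=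
  mem_CH.2 (Subgroup.mem_center_iff.1 negOne_mem_center om0).symm

theorem mem_QS_of_ker {g : cen} (hg : g ∈ CH) (hk : g ∈ phi.ker) :
    (g : Co0) ∈ QS ∨ negOne * (g : Co0) ∈ QS := by
  have hnn : negOne * negOne = 1 := co0_ext fun v => by
    rw [mul_smul, negOne_smul, negOne_smul, neg_neg, one_smul]
  obtain ⟨σ, c, rfl | rfl⟩ := Co1Centralizer.mem_ker_phi_iff.1 hk
  · obtain ⟨n, hn⟩ := exists_qEl (σ := σ) (c := c) (mem_CH.1 hg)
    exact Or.inl (hn ▸ qEl_mem n : Co2Centralizer.kerMono σ c ∈ QS)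
  · refine Or.inr ?_
    show negOne * (negOne * Co2Centralizer.kerMono σ c) ∈ QS
    rw [← mul_assoc, hnn, one_mul]
    have h : Co2Centralizer.kerMono σ c * om0 = om0 * Co2Centralizer.kerMono σ c :=
      mem_CH.1 ((Subgroup.mul_mem_cancel_left CH negEl_mem_CH).1 hg)
    obtain ⟨n, hn⟩ := exists_qEl h
    exact hn ▸ qEl_mem n

/-! ### Conjugation by the generators -/

/-- The position of a conjugate of a basis element. -/
def cIdx (k : Fin 3) (j : I6) : Fin 128 := Fin.ofNat 128 ((conjData.getD k.val []).getD (idx6 j) 0)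

theorem conj_check : ∀ (k : Fin 3) (j : I6) (p i : GolayPt),
    genF k (monoF (qd (bIdx j)) (Pi.single p 8)) i = monoF (qd (cIdx k j)) (genF k (Pi.single p 8)) i := by
  decide +kernel

theorem conj_basis (k : Fin 3) (j : I6) : gen0 k * qEl (bIdx j) * (gen0 k)⁻¹ = qEl (cIdx k j) := by
  refine mul_inv_eq_iff_eq_mul.2 (ext_frame fun p => Subtype.ext (funext fun i => ?_))
  simp only [mul_smul, qEl, vec_gen0, vec_monoD (qd_ok _), coe_eightVec]
  exact conj_check k j p i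

theorem conj_gen_mem (k : Fin 3) {q : Co0} (hq : q ∈ QS) : gen0 k * q * (gen0 k)⁻¹ ∈ QS := by
  let S : Subgroup Co0 := QS ⊓ QS.comap (MulAut.conj (gen0 k)).toMonoidHom
  have hinv : inv0 ∈ S := Subgroup.mem_inf.2 ⟨inv0_mem_QS, by
    rw [Subgroup.mem_comap]
    show gen0 k * inv0 * (gen0 k)⁻¹ ∈ QS
    rw [Co1Centralizer.mem_cen.1 (gen0_mem k), mul_inv_cancel_right]
    exact inv0_mem_QS⟩
  have hv : ∀ v : V6, ∃ g ∈ S, c6 g = v := by
    intro v
    rw [← Finset.univ_sum_single v]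
    refine Finset.sum_induction _ (fun w => ∃ g ∈ S, c6 g = w) ?_ ⟨1, one_mem _, c6_one⟩ fun j _ => ?_
    · rintro _ _ ⟨a, ha, rfl⟩ ⟨b, hb, rfl⟩
      exact ⟨a * b, mul_mem ha hb, c6_mul ha.1 hb.1⟩
    · rcases (by decide : ∀ c : ZMod 2, c = 0 ∨ c = 1) (v j) with h | h
      · exact ⟨1, one_mem _, by rw [c6_one, h, Pi.single_zero]⟩
      · refine ⟨qEl (bIdx j), Subgroup.mem_inf.2 ⟨qEl_mem _, ?_⟩, by rw [c6_qEl, c6_basis, h]⟩
        rw [Subgroup.mem_comap]
        show gen0 k * qEl (bIdx j) * (gen0 k)⁻¹ ∈ QS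
        rw [conj_basis]
        exact qEl_mem _
  obtain ⟨g, hg, e⟩ := hv (c6 q)
  have h0 : c6 (g⁻¹ * q) = 0 := by
    have h1 := c6_mul hg.1 (mul_mem (inv_mem hg.1) hq)
    rw [mul_inv_cancel_left, e] at h1
    exact left_eq_add.1 h1
  have hS : q ∈ S := by
    rcases c6_eq_zero (mul_mem (inv_mem hg.1) hq) h0 with h | h
    · rwa [← inv_mul_eq_one.1 h]
    · rw [inv_mul_eq_iff_eq_mul.1 h]
      exact mul_mem hg hinv
  exact (Subgroup.mem_inf.1 hS).2

theorem conj_mem {g : cen} (hg : g ∈ CH) {q : Co0} (hq : q ∈ QS) :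
    (g : Co0) * q * (g : Co0)⁻¹ ∈ QS := by
  let N : Subgroup cen := (Subgroup.normalizer (QS : Set Co0)).comap cen.subtype
  suffices h : g ∈ N from (Subgroup.mem_normalizer_iff.1 h q).1 hq
  have hgen : genSub ≤ N := (Subgroup.closure_le _).2 (by
    rintro _ ⟨k, rfl⟩
    have hmap : QS.map (MulAut.conj (gen0 k)).toMonoidHom = QS := Subgroup.eq_of_le_of_card_ge
      (by rintro _ ⟨x, hx, rfl⟩; exact conj_gen_mem k hx)
      (Subgroup.card_map_of_injective (K := QS) (f := (MulAut.conj (gen0 k)).toMonoidHom)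
        (MulAut.conj (gen0 k)).injective).ge
    refine Subgroup.mem_normalizer_iff.2 fun x => ⟨fun hx => conj_gen_mem k hx, fun hx => ?_⟩
    rw [← hmap] at hx
    obtain ⟨y, hy, e⟩ := hx
    exact (MulAut.conj (gen0 k)).injective e ▸ hy)
  obtain ⟨a, ha, hk⟩ := exists_genSub hg
  have hneg : negEl ∈ N := Subgroup.center_le_normalizer _ negOne_mem_center
  have hkN : a⁻¹ * g ∈ N := by
    rcases mem_QS_of_ker (mul_mem (inv_mem (genSub_le ha)) hg) hk with h | h
    · exact Subgroup.le_normalizer h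
    · exact (Subgroup.mul_mem_cancel_left N hneg).1 (Subgroup.le_normalizer h : negEl * (a⁻¹ * g) ∈ N)
  rw [← mul_inv_cancel_left a g]
  exact mul_mem (hgen ha) hkN

/-! ### The action -/

theorem c6_inv {a : Co0} (ha : a ∈ QS) : c6 a⁻¹ = c6 a := by
  have h := c6_mul (inv_mem ha) ha
  rw [inv_mul_cancel, c6_one] at h
  exact funext fun i => (CharTwo.add_eq_zero.1 (congrFun h.symm i))

/-- A representative of a class. -/
noncomputable def rep (v : V6) : Co0 := (c6_surj v).choose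

theorem rep_spec (v : V6) : rep v ∈ QS ∧ c6 (rep v) = v := (c6_surj v).choose_spec

theorem c6_conj {g : cen} (hg : g ∈ CH) {q : Co0} (hq : q ∈ QS) :
    c6 ((g : Co0) * rep (c6 q) * (g : Co0)⁻¹) = c6 ((g : Co0) * q * (g : Co0)⁻¹) := by
  obtain ⟨hr, hr'⟩ := rep_spec (c6 q)
  have h0 : c6 ((rep (c6 q))⁻¹ * q) = 0 := by
    rw [c6_mul (inv_mem hr) hq, c6_inv hr, hr']
    exact funext fun i => CharTwo.add_self_eq_zero _
  rcases c6_eq_zero (mul_mem (inv_mem hr) hq) h0 with h | h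
  · rw [inv_mul_eq_one.1 h]
  · conv_rhs => rw [inv_mul_eq_iff_eq_mul.1 h]
    rw [show (g : Co0) * (rep (c6 q) * inv0) * (g : Co0)⁻¹ =
        ((g : Co0) * rep (c6 q) * (g : Co0)⁻¹) * ((g : Co0) * inv0 * (g : Co0)⁻¹) by group,
      Co1Centralizer.mem_cen.1 g.2, mul_inv_cancel_right, c6_mul (conj_mem hg hr) inv0_mem_QS, c6_inv0,
      add_zero]

/-- The action as a linear map. -/
noncomputable def lin (g : CH) : V6 →ₗ[ZMod 2] V6 :=
  (AddMonoidHom.mk' (fun v => c6 (((g : cen) : Co0) * rep v * ((g : cen) : Co0)⁻¹)) fun v w => by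
    obtain ⟨hv, hv'⟩ := rep_spec v
    obtain ⟨hw, hw'⟩ := rep_spec w
    have e : c6 (((g : cen) : Co0) * rep (v + w) * ((g : cen) : Co0)⁻¹) =
        c6 (((g : cen) : Co0) * (rep v * rep w) * ((g : cen) : Co0)⁻¹) := by
      rw [← c6_conj g.2 (mul_mem hv hw), c6_mul hv hw, hv', hw']
    rw [e, ← c6_mul (conj_mem g.2 hv) (conj_mem g.2 hw)]
    group).toZModLinearMap 2

theorem lin_c6 (g : CH) {q : Co0} (hq : q ∈ QS) :
    lin g (c6 q) = c6 (((g : cen) : Co0) * q * ((g : cen) : Co0)⁻¹) := c6_conj g.2 hq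

/-- The matrix. -/
noncomputable def mat6 (g : CH) : Matrix I6 I6 (ZMod 2) := LinearMap.toMatrix' (lin g)

theorem mat6_mulVec (g : CH) (v : V6) : mat6 g *ᵥ v = lin g v := LinearMap.toMatrix'_mulVec _ v

theorem lin_mul (g h : CH) (v : V6) : lin (g * h) v = lin g (lin h v) := by
  obtain ⟨q, hq, rfl⟩ := c6_surj v
  rw [lin_c6 _ hq, lin_c6 _ hq, lin_c6 _ (conj_mem h.2 hq)]
  simp only [Subgroup.coe_mul, mul_inv_rev, mul_assoc]

/-- The matrix as a homomorphism. -/
noncomputable def mat6Hom : CH →* Matrix I6 I6 (ZMod 2) where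
  toFun := mat6
  map_one' := Matrix.ext_iff_mulVec.2 fun v => by
    rw [mat6_mulVec, Matrix.one_mulVec]
    obtain ⟨q, hq, rfl⟩ := c6_surj v
    rw [lin_c6 _ hq, OneMemClass.coe_one, OneMemClass.coe_one, one_mul, inv_one, mul_one]
  map_mul' g h := Matrix.ext_iff_mulVec.2 fun v => by
    rw [← Matrix.mulVec_mulVec, mat6_mulVec, mat6_mulVec, mat6_mulVec, lin_mul]

/-- The quadratic form on the six coordinates. -/
noncomputable abbrev Q6 : QuadraticForm (ZMod 2) V6 := Orth.quadMinus 2 (ZMod 2) 1 1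

/-- The orthogonal group. -/
abbrev O6 : Type := Orth.IsoGrp (Orth.quadMinus 2 (ZMod 2) 1 1)

theorem pw_injective : Function.Injective pw := fun a b h => by
  rcases (by decide : ∀ c : ZMod 2, c = 0 ∨ c = 1) a with rfl | rfl <;>
    rcases (by decide : ∀ c : ZMod 2, c = 0 ∨ c = 1) b with rfl | rfl <;>
    first | rfl | (rw [pw_zero, pw_one] at h; exact absurd h.symm inv0_ne_one) |
      (rw [pw_zero, pw_one] at h; exact absurd h inv0_ne_one)

theorem qf_lin (g : CH) (v : V6) :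
    quadFormMinus 2 (ZMod 2) 1 1 (mat6 g *ᵥ v) = quadFormMinus 2 (ZMod 2) 1 1 v := by
  obtain ⟨q, hq, rfl⟩ := c6_surj v
  rw [mat6_mulVec, lin_c6 g hq]
  refine pw_injective ?_
  have hc : ∀ e, ((g : cen) : Co0) * pw e = pw e * ((g : cen) : Co0) :=
    pw_comm (Co1Centralizer.mem_cen.1 (g : cen).2)
  rw [← sq_QS (conj_mem g.2 hq), show ((g : cen) : Co0) * q * ((g : cen) : Co0)⁻¹ *
      (((g : cen) : Co0) * q * ((g : cen) : Co0)⁻¹) =
      ((g : cen) : Co0) * (q * q) * ((g : cen) : Co0)⁻¹ by group, sq_QS hq, hc, mul_inv_cancel_right]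

/-- The homomorphism to the orthogonal group. -/
noncomputable def theta : CH →* O6 where
  toFun g := ⟨mat6Hom.toHomUnits g, fun v _ => qf_lin g v⟩
  map_one' := Subtype.ext (map_one _)
  map_mul' g h := Subtype.ext (map_mul _ g h)

theorem theta_c6 (g : CH) {q : Co0} (hq : q ∈ QS) :
    Orth.ap (theta g) (c6 q) = c6 (((g : cen) : Co0) * q * ((g : cen) : Co0)⁻¹) := by
  rw [← lin_c6 g hq, ← mat6_mulVec]
  rfl

theorem theta_eq_one_of_comm {g : CH}
    (h : ∀ q ∈ QS, ∃ e, ((g : cen) : Co0) * q = pw e * (q * ((g : cen) : Co0))) : theta g = 1 := by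
  refine Orth.ext_ap fun v => ?_
  obtain ⟨q, hq, rfl⟩ := c6_surj v
  obtain ⟨e, he⟩ := h q hq
  rw [Orth.ap_one, theta_c6 g hq, he, mul_assoc, mul_inv_cancel_right]
  have hp : pw e ∈ QS := by
    unfold pw
    split_ifs
    exacts [one_mem _, inv0_mem_QS]
  rw [c6_mul hp hq]
  unfold pw
  split_ifs
  · rw [c6_one, zero_add]
  · rw [c6_inv0, zero_add]

theorem theta_eq_one_of_mem_AZ {g : CH} (h : ((g : cen) : Co0) ∈ AZ) : theta g = 1 :=
  theta_eq_one_of_comm fun q hq => ⟨0, by rw [pw_zero, one_mul, AZ_comm (comm_om_of_mem hq) h]⟩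

theorem theta_eq_one_of_mem_QS {g : CH} (h : ((g : cen) : Co0) ∈ QS) : theta g = 1 :=
  theta_eq_one_of_comm fun _ hq => ⟨_, com_spec h hq⟩

theorem theta_eq_one_of_ker {g : CH} (h : (g : cen) ∈ phi.ker) : theta g = 1 := by
  rcases mem_QS_of_ker g.2 h with h1 | h1
  · exact theta_eq_one_of_mem_QS h1
  · have h2 : theta (⟨negEl, negEl_mem_CH⟩ * g) = 1 := theta_eq_one_of_mem_QS h1
    rwa [map_mul, theta_eq_one_of_mem_AZ (g := ⟨negEl, negEl_mem_CH⟩) negOne_mem_AZ, one_mul] at h2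

/-! ### The image -/

/-- Bit vectors as coordinate vectors. -/
def toV6 (n : ℕ) : V6 := fun k => if n.testBit (idx6 k) then 1 else 0

/-- The image of a bit vector under a generator. -/
def img6 (k : Fin 3) (n : ℕ) : ℕ := combine (mat6Data.getD k.val []) n

theorem img6_check : ∀ (k : Fin 3) (n : Fin 64), img6 k n.val < 64 ∧
    (∑ j, toV6 n.val j • c6d (cIdx k j)) = toV6 (img6 k n.val) := by decide +kernel

/-- A generator in `CH`. -/
noncomputable def genCH (k : Fin 3) : CH := ⟨gen k, gen_mem_CH k⟩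

theorem ap_gen6 (k : Fin 3) {n : ℕ} (hn : n < 64) :
    Orth.ap (theta (genCH k)) (toV6 n) = toV6 (img6 k n) := by
  show mat6 (genCH k) *ᵥ toV6 n = _
  rw [← (img6_check k ⟨n, hn⟩).2, mat6_mulVec]
  conv_lhs => rw [pi_eq_sum_univ' (toV6 n), map_sum]
  refine Finset.sum_congr rfl fun j _ => ?_
  rw [map_smul, ← c6_basis, ← c6_qEl, lin_c6 _ (qEl_mem _)]
  congr 1
  rw [← c6_qEl, ← conj_basis]
  rfl

/-- The product along a word. -/
noncomputable def word6 (w : List ℕ) : CH := (w.map fun g => genCH (Fin.ofNat 3 g)).prod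

/-- The image of a bit vector under a word. -/
def imgW6 : List ℕ → ℕ → ℕ
  | [], n => n
  | g :: w, n => img6 (Fin.ofNat 3 g) (imgW6 w n)

theorem imgW6_lt : ∀ (w : List ℕ) {n : ℕ}, n < 64 → imgW6 w n < 64
  | [], _, h => h
  | g :: w, _, h => (img6_check _ ⟨_, imgW6_lt w h⟩).1

theorem ap_word6 : ∀ (w : List ℕ) {n : ℕ}, n < 64 →
    Orth.ap (theta (word6 w)) (toV6 n) = toV6 (imgW6 w n)
  | [], n, _ => by rw [word6, List.map_nil, List.prod_nil, map_one, Orth.ap_one]; rfl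
  | g :: w, n, h => by
    rw [word6, List.map_cons, List.prod_cons, map_mul, Orth.ap_mul, ← word6, ap_word6 w h,
      ap_gen6 _ (imgW6_lt w h)]
    rfl

theorem toV6_surj : ∀ v : V6, ∃ n : Fin 64, toV6 n.val = v := by decide +kernel

/-- The bilinear form. -/
def bil6 (x y : V6) : ZMod 2 :=
  (∑ i : Fin 2, (x (.inl (.inl i)) * y (.inl (.inr i)) + y (.inl (.inl i)) * x (.inl (.inr i)))) +
    (x (.inr 0) * y (.inr 1) + y (.inr 0) * x (.inr 1))

theorem polar6 (x y : V6) : QuadraticMap.polar ⇑Q6 x y = bil6 x y := by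
  rw [Orth.coe_quadMinus, Orth.polar_quadMinus, bil6, show (2 : ZMod 2) = 0 from rfl]
  ring

theorem refl6 {v : V6} (hv : quadFormMinus 2 (ZMod 2) 1 1 v = 1) (x : V6) :
    Orth.ap (Orth.refl Q6 v) x = x + bil6 v x • v := by
  rw [Orth.refl_ap, Orth.coe_quadMinus, hv, inv_one, one_mul, ← Orth.coe_quadMinus, polar6]
  funext i
  simp only [Pi.sub_apply, Pi.add_apply, CharTwo.sub_eq_add]

/-- A reflection on bit vectors. -/
def reflN (a n : ℕ) : ℕ := if bil6 (toV6 a) (toV6 n) = 1 then a ^^^ n else n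

theorem reflN_check : ∀ a n : Fin 64, reflN a.val n.val < 64 ∧
    toV6 n.val + bil6 (toV6 a.val) (toV6 n.val) • toV6 a.val = toV6 (reflN a.val n.val) := by
  decide +kernel

/-- A product of pairs of reflections on bit vectors. -/
def pairsN : List (ℕ × ℕ) → ℕ → ℕ
  | [], n => n
  | (a, b) :: L, n => reflN a (reflN b (pairsN L n))

theorem good6 : Orth.Good Q6 :=
  Orth.Good.of_card (Orth.quadMinus_nondeg 2 (by unfold Orth.Aniso; decide)) (Or.inr (by simp))

theorem pair_mem_omega {a b : V6} (ha : quadFormMinus 2 (ZMod 2) 1 1 a = 1)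
    (hb : quadFormMinus 2 (ZMod 2) 1 1 b = 1) :
    Orth.refl Q6 a * Orth.refl Q6 b ∈ Omega (ZMod 2) (quadFormMinus 2 (ZMod 2) 1 1) := by
  have ha' : Q6 a = 1 := ha
  have hb' : Q6 b = 1 := hb
  refine (Orth.mem_omega_iff good6 _).2 ⟨?_, ?_⟩
  · rw [Orth.dick_mul good6, Orth.dick_refl good6.nd (by rw [ha']; exact one_ne_zero),
      Orth.dick_refl good6.nd (by rw [hb']; exact one_ne_zero)]
    norm_num
  · rw [Orth.spin_mul good6, Orth.spin_refl good6.nd (by rw [ha']; exact one_ne_zero),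
      Orth.spin_refl good6.nd (by rw [hb']; exact one_ne_zero), ha', hb', map_one]
    norm_num

theorem exists_pairs : ∀ L : List (ℕ × ℕ),
    (∀ p ∈ L, p.1 < 64 ∧ p.2 < 64 ∧ quadFormMinus 2 (ZMod 2) 1 1 (toV6 p.1) = 1 ∧
      quadFormMinus 2 (ZMod 2) 1 1 (toV6 p.2) = 1) →
    ∃ h : O6, h ∈ Omega (ZMod 2) (quadFormMinus 2 (ZMod 2) 1 1) ∧ ∀ n < 64,
      pairsN L n < 64 ∧ Orth.ap h (toV6 n) = toV6 (pairsN L n)
  | [], _ => ⟨1, one_mem _, fun n hn => ⟨hn, Orth.ap_one _⟩⟩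
  | (a, b) :: L, hL => by
    obtain ⟨h, hh, hn'⟩ := exists_pairs L fun p hp => hL p (List.mem_cons_of_mem _ hp)
    obtain ⟨ha, hb, qa, qb⟩ := hL _ List.mem_cons_self
    refine ⟨Orth.refl Q6 (toV6 a) * Orth.refl Q6 (toV6 b) * h, mul_mem (pair_mem_omega qa qb) hh,
      fun n hn => ?_⟩
    obtain ⟨h1, h2⟩ := hn' n hn
    obtain ⟨h3, h4⟩ := reflN_check ⟨b, hb⟩ ⟨_, h1⟩
    obtain ⟨h5, h6⟩ := reflN_check ⟨a, ha⟩ ⟨_, h3⟩
    exact ⟨h5, by rw [Orth.ap_mul, Orth.ap_mul, h2, refl6 qb, h4, refl6 qa, h6]; rfl⟩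

theorem reflData_check : ∀ k : Fin 2, (∀ p ∈ reflData.getD k.val [], p.1 < 64 ∧ p.2 < 64 ∧
    quadFormMinus 2 (ZMod 2) 1 1 (toV6 p.1) = 1 ∧ quadFormMinus 2 (ZMod 2) 1 1 (toV6 p.2) = 1) ∧
    ∀ n : Fin 64, pairsN (reflData.getD k.val []) n.val = img6 k.succ n.val := by decide +kernel

theorem theta_gen_mem (k : Fin 3) :
    theta (genCH k) ∈ Omega (ZMod 2) (quadFormMinus 2 (ZMod 2) 1 1) := by
  induction k using Fin.cases with
  | zero =>
    rw [theta_eq_one_of_mem_AZ (g := genCH 0)]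
    · exact one_mem _
    · show ((gen 0 : cen) : Co0) ∈ AZ
      rw [gen_zero_coe]
      exact Subgroup.mem_sup_left (Subgroup.mem_zpowers _)
  | succ k =>
    obtain ⟨h1, h2⟩ := reflData_check k
    obtain ⟨h, hh, hn⟩ := exists_pairs _ h1
    rwa [show theta (genCH k.succ) = h from Orth.ext_ap fun v => by
      obtain ⟨n, rfl⟩ := toV6_surj v
      rw [ap_gen6 _ n.2, (hn _ n.2).2, h2 n]]

theorem range_le : theta.range ≤ Omega (ZMod 2) (quadFormMinus 2 (ZMod 2) 1 1) := by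
  rintro _ ⟨⟨g, hg⟩, rfl⟩
  obtain ⟨a, ha, hk⟩ := exists_genSub hg
  let K : Subgroup cen :=
    ((Omega (ZMod 2) (quadFormMinus 2 (ZMod 2) 1 1) : Subgroup O6).comap theta).map CH.subtype
  have hgen : genSub ≤ K := (Subgroup.closure_le _).2 fun _ ⟨k, e⟩ => e ▸ ⟨genCH k, theta_gen_mem k, rfl⟩
  obtain ⟨⟨a', ha'⟩, h1, e⟩ := hgen ha
  change a' = a at e
  subst e
  have hb : theta (⟨a', ha'⟩⁻¹ * ⟨g, hg⟩) = 1 := theta_eq_one_of_ker hk
  have h2 : theta ⟨g, hg⟩ = theta ⟨a', ha'⟩ := by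
    rwa [map_mul, map_inv, inv_mul_eq_one, eq_comm] at hb
  rw [h2]
  exact h1

/-- The seed. -/
def cu6 : V6 := toV6 seed6

/-- The check of certificates against a list of words. -/
def certCheck (words : List (List ℕ)) : List (ℕ × ℕ × ℕ) → List ℕ → Bool
  | [], _ => true
  | (q, p, k) :: L, seen =>
    seen.contains p && decide (p < 64) && (imgW6 (words.getD k []) p == q) &&
      certCheck words L (q :: seen)

theorem certCheck_sound (words : List (List ℕ)) (P : ℕ → Prop)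
    (hP : ∀ (p k : ℕ), p < 64 → P p → P (imgW6 (words.getD k []) p)) :
    ∀ L seen, certCheck words L seen = true → (∀ n ∈ seen, P n) →
      ∀ n, (n ∈ seen ∨ n ∈ L.map Prod.fst) → P n
  | [], seen, _, h, n, hn => h n (by simpa using hn)
  | (q, p, k) :: L, seen, hc, h, n, hn => by
    simp only [certCheck, Bool.and_eq_true, List.contains_iff_mem, decide_eq_true_eq, beq_iff_eq] at hc
    obtain ⟨⟨⟨h1, h2⟩, h3⟩, h5⟩ := hc
    refine certCheck_sound words P hP L (q :: seen) h5 (fun m hm => ?_) n ?_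
    · rcases List.mem_cons.1 hm with rfl | hm
      · exact h3 ▸ hP p k h2 (h p h1)
      · exact h m hm
    · rcases hn with hn | hn
      · exact Or.inl (List.mem_cons_of_mem _ hn)
      · rw [List.map_cons, List.mem_cons] at hn
        rcases hn with rfl | hn
        · exact Or.inl List.mem_cons_self
        · exact Or.inr hn

/-- Single generators as words. -/
def singles : List (List ℕ) := [[0], [1], [2]]

theorem orbit_check : certCheck singles orbit6Data [seed6] = true := by decide +kernel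

theorem perp_check : certCheck stab6Data perp6Data [centre6] = true := by decide +kernel

theorem cover6 : ∀ v : V6, quadFormMinus 2 (ZMod 2) 1 1 v = 1 →
    ∃ n ∈ seed6 :: orbit6Data.map Prod.fst, toV6 n = v := by
  decide +kernel

theorem cover6' : ∀ v : V6, quadFormMinus 2 (ZMod 2) 1 1 v = 0 ∨ bil6 cu6 v = 1 ∨ v = cu6 ∨
    ∃ n ∈ centre6 :: perp6Data.map Prod.fst, toV6 n = v := by decide +kernel

theorem exists_ap6 {v : V6} (hv : quadFormMinus 2 (ZMod 2) 1 1 v = 1) :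
    ∃ g : CH, Orth.ap (theta g) cu6 = v := by
  obtain ⟨n, hn, rfl⟩ := cover6 v hv
  refine certCheck_sound singles (fun n => ∃ g : CH, Orth.ap (theta g) cu6 = toV6 n) ?_ _ _ orbit_check
    (fun m hm => ?_) n (by rw [List.mem_cons] at hn; exact hn.imp List.mem_singleton.2 id)
  · rintro p k hp ⟨g, hg⟩
    exact ⟨word6 (singles.getD k []) * g, by rw [map_mul, Orth.ap_mul, hg, ap_word6 _ hp]⟩
  · rw [List.mem_singleton] at hm
    exact ⟨1, by rw [map_one, Orth.ap_one, hm]; rfl⟩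

theorem stab_check : ∀ k : Fin 3, imgW6 (stab6Data.getD k.val []) seed6 = seed6 := by decide +kernel

theorem stab_fix (k : ℕ) : imgW6 (stab6Data.getD k []) seed6 = seed6 := by
  rcases lt_or_ge k 3 with h | h
  · exact stab_check ⟨k, h⟩
  · rw [List.getD_eq_default _ _ (by simp only [stab6Data, List.length_cons, List.length_nil]; omega)]
    rfl

theorem centre_check : quadFormMinus 2 (ZMod 2) 1 1 (toV6 centre6) = 1 ∧
    quadFormMinus 2 (ZMod 2) 1 1 cu6 = 1 ∧
    ∀ n : Fin 64, imgW6 centre6Word n.val = reflN centre6 (reflN seed6 n.val) := by decide +kernel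

theorem qf_cu6 : quadFormMinus 2 (ZMod 2) 1 1 cu6 = 1 := centre_check.2.1

theorem perp_mem6 {v : V6} (hv : quadFormMinus 2 (ZMod 2) 1 1 v = 1) (hb : bil6 cu6 v = 0) :
    Orth.refl Q6 v * Orth.refl Q6 cu6 ∈ theta.range := by
  rcases cover6' v with h | h | rfl | ⟨n, hn, rfl⟩
  · exact absurd (hv ▸ h) one_ne_zero
  · exact absurd (hb ▸ h) zero_ne_one
  · rw [Orth.refl_mul_self]; exact one_mem _
  refine certCheck_sound stab6Data (fun n => Orth.refl Q6 (toV6 n) * Orth.refl Q6 cu6 ∈ theta.range) ?_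
    _ _ perp_check (fun m hm => ?_) n (by rw [List.mem_cons] at hn; exact hn.imp List.mem_singleton.2 id)
  · intro p k hp h
    have hm : theta (word6 (stab6Data.getD k [])) ∈ theta.range := ⟨_, rfl⟩
    have h1 := mul_mem (mul_mem hm h) (inv_mem hm)
    generalize hx : theta (word6 (stab6Data.getD k [])) = x at h1
    rw [show x * (Orth.refl Q6 (toV6 p) * Orth.refl Q6 cu6) * x⁻¹ =
      (x * Orth.refl Q6 (toV6 p) * x⁻¹) * (x * Orth.refl Q6 cu6 * x⁻¹) by group, Orth.conj_refl,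
      Orth.conj_refl, ← hx, ap_word6 _ hp, show Orth.ap (theta (word6 (stab6Data.getD k []))) cu6 = cu6 by
        rw [cu6, ap_word6 _ (by decide), stab_fix]] at h1
    exact h1
  · rw [List.mem_singleton] at hm
    subst hm
    refine ⟨word6 centre6Word, Orth.ext_ap fun x => ?_⟩
    obtain ⟨n, rfl⟩ := toV6_surj x
    obtain ⟨h1, h2⟩ := reflN_check ⟨seed6, by decide⟩ n
    obtain ⟨-, h4⟩ := reflN_check ⟨centre6, by decide⟩ ⟨_, h1⟩
    rw [ap_word6 _ n.2, Orth.ap_mul, refl6 qf_cu6, centre_check.2.2 n]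
    show _ = Orth.ap _ (toV6 n.val + bil6 (toV6 seed6) (toV6 n.val) • toV6 seed6)
    rw [h2, refl6 centre_check.1, h4]

theorem exists_mid6 : ∀ v : V6, quadFormMinus 2 (ZMod 2) 1 1 v = 1 →
    ∃ w : V6, quadFormMinus 2 (ZMod 2) 1 1 w = 1 ∧ bil6 cu6 w = 0 ∧ bil6 w v = 0 := by decide +kernel

theorem refl_mul_mem6 {v : V6} (hv : quadFormMinus 2 (ZMod 2) 1 1 v = 1) :
    Orth.refl Q6 v * Orth.refl Q6 cu6 ∈ theta.range := by
  obtain ⟨w, hw, hcw, hwv⟩ := exists_mid6 v hv
  obtain ⟨g, hg⟩ := exists_ap6 hw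
  have hQ : quadFormMinus 2 (ZMod 2) 1 1 (Orth.ap (theta g)⁻¹ v) = 1 :=
    (Orth.Q_ap (Q := Q6) (theta g)⁻¹ v).trans hv
  have hb : bil6 cu6 (Orth.ap (theta g)⁻¹ v) = 0 := by
    rw [← polar6, ← Orth.polar_ap (Q := Q6) (theta g), hg, ← Orth.ap_mul, mul_inv_cancel, Orth.ap_one,
      polar6, hwv]
  have hm : theta g ∈ theta.range := ⟨g, rfl⟩
  have h := mul_mem (mul_mem hm (perp_mem6 hQ hb)) (inv_mem hm)
  generalize hx : theta g = x at h hg
  rw [show x * (Orth.refl Q6 (Orth.ap x⁻¹ v) * Orth.refl Q6 cu6) * x⁻¹ =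
      (x * Orth.refl Q6 (Orth.ap x⁻¹ v) * x⁻¹) * (x * Orth.refl Q6 cu6 * x⁻¹) by group,
    Orth.conj_refl, Orth.conj_refl, hg, ← Orth.ap_mul, mul_inv_cancel, Orth.ap_one] at h
  have := mul_mem h (perp_mem6 hw hcw)
  rwa [show Orth.refl Q6 v * Orth.refl Q6 w * (Orth.refl Q6 w * Orth.refl Q6 cu6) =
    Orth.refl Q6 v * (Orth.refl Q6 w * Orth.refl Q6 w) * Orth.refl Q6 cu6 by group,
    Orth.refl_mul_self, mul_one] at this

theorem refl_conj_mem6 {x : O6} (hx : x ∈ theta.range) :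
    Orth.refl Q6 cu6 * x * Orth.refl Q6 cu6 ∈ theta.range := by
  have h1 := inv_mem (refl_mul_mem6 (v := Orth.ap x cu6) ((Orth.Q_ap (Q := Q6) x cu6).trans qf_cu6))
  rw [mul_inv_rev, Orth.refl_inv, Orth.refl_inv] at h1
  have h3 := mul_mem h1 hx
  rwa [← Orth.conj_refl, show Orth.refl Q6 cu6 * (x * Orth.refl Q6 cu6 * x⁻¹) * x =
    Orth.refl Q6 cu6 * x * Orth.refl Q6 cu6 by group] at h3

theorem mem_or_mul_mem6 (g : O6) : g ∈ theta.range ∨ g * Orth.refl Q6 cu6 ∈ theta.range := by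
  let S : Subgroup O6 :=
    { carrier := {g | g ∈ theta.range ∨ g * Orth.refl Q6 cu6 ∈ theta.range}
      one_mem' := Or.inl (one_mem _)
      mul_mem' := by
        rintro a b (ha | ha) (hb | hb)
        · exact Or.inl (mul_mem ha hb)
        · exact Or.inr (by rw [mul_assoc]; exact mul_mem ha hb)
        · refine Or.inr ?_
          have := mul_mem ha (refl_conj_mem6 hb)
          rwa [show a * Orth.refl Q6 cu6 * (Orth.refl Q6 cu6 * b * Orth.refl Q6 cu6) =
            a * (Orth.refl Q6 cu6 * Orth.refl Q6 cu6) * b * Orth.refl Q6 cu6 by group,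
            Orth.refl_mul_self, mul_one] at this
        · refine Or.inl ?_
          have := mul_mem ha (refl_conj_mem6 hb)
          rwa [show a * Orth.refl Q6 cu6 * (Orth.refl Q6 cu6 * (b * Orth.refl Q6 cu6) * Orth.refl Q6 cu6) =
            a * (Orth.refl Q6 cu6 * Orth.refl Q6 cu6) * b * (Orth.refl Q6 cu6 * Orth.refl Q6 cu6) by group,
            Orth.refl_mul_self, mul_one, mul_one] at this
      inv_mem' := by
        rintro a (ha | ha)
        · exact Or.inl (inv_mem ha)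
        · refine Or.inr ?_
          have := refl_conj_mem6 (inv_mem ha)
          rwa [mul_inv_rev, Orth.refl_inv, ← mul_assoc, Orth.refl_mul_self, one_mul] at this }
  have hle : Orth.reflGen Q6 ≤ S := (Subgroup.closure_le _).2 (by
    rintro _ ⟨v, rfl⟩
    rcases (by decide : ∀ c : ZMod 2, c = 0 ∨ c = 1) (quadFormMinus 2 (ZMod 2) 1 1 v) with h | h
    · rw [Orth.refl_eq_one (Q := Q6) h]; exact one_mem S
    · exact Or.inr (refl_mul_mem6 h))
  exact hle (good6.gen ▸ Subgroup.mem_top g)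

theorem range_theta : theta.range = Omega (ZMod 2) (quadFormMinus 2 (ZMod 2) 1 1) := by
  refine le_antisymm range_le fun g hg => (mem_or_mul_mem6 g).resolve_right fun h => ?_
  have h1 := mul_mem (inv_mem hg) (range_le h)
  rw [inv_mul_cancel_left] at h1
  have h2 := ((Orth.mem_omega_iff good6 _).1 h1).1
  rw [Orth.dick_refl good6.nd (by rw [show Q6 cu6 = 1 from qf_cu6]; exact one_ne_zero)] at h2
  norm_num at h2

theorem natCard_range : Nat.card theta.range = 25920 := by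
  have h0 := Cfsg.Agent.S0288.result (F := ZMod 2) (q := 2) (ZMod.card 2) 3 (by norm_num) 1 1 (by decide)
  have h : Nat.card O6 = 51840 := h0.trans (by simp [Finset.prod_range_succ])
  have h1 := Subgroup.card_mul_index (Omega (ZMod 2) ⇑Q6)
  rw [Orth.omega_index_two good6 (by simp) rfl] at h1
  rw [range_theta]
  have h2 : Nat.card ↥(Omega (ZMod 2) ⇑Q6) * 2 = 51840 := h1.trans h
  have h3 : Nat.card ↥(Omega (ZMod 2) ⇑Q6) = 25920 := by omega
  exact h3

/-! ### The kernel -/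

/-- `phi` on `CH`. -/
noncomputable def phiCH : CH →* Co1Centralizer.OGrp := phi.comp CH.subtype

theorem mem_ker_theta {g : CH} (hg : g ∈ theta.ker) : ∃ a ∈ AZ, ∃ q ∈ QS, ((g : cen) : Co0) = a * q := by
  have hle : phiCH.rangeRestrict.ker ≤ theta.ker := fun x hx =>
    MonoidHom.mem_ker.2 (theta_eq_one_of_ker
      (MonoidHom.mem_ker.2 (congrArg Subtype.val (MonoidHom.mem_ker.1 hx))))
  have h1 := Subgroup.card_mul_index (theta.ker.map phiCH.rangeRestrict)
  rw [Subgroup.index_map_eq _ phiCH.rangeRestrict_surjective hle, Subgroup.index_ker, natCard_range] at h1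
  have h2 : Nat.card phiCH.range ≤ 77760 := by
    have e : phiCH.range = CH.map phi := by rw [phiCH, MonoidHom.range_comp, Subgroup.range_subtype]
    rw [e]; exact natCard_phiCH_le
  set K : Subgroup phiCH.range := theta.ker.map phiCH.rangeRestrict with hK
  have h3 : Nat.card K ≤ 3 := by omega
  set w : phiCH.range := phiCH.rangeRestrict (genCH 0) with hw
  have hwK : w ∈ K := ⟨genCH 0, MonoidHom.mem_ker.2 (theta_eq_one_of_mem_AZ (by
    show ((gen 0 : cen) : Co0) ∈ AZ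
    rw [gen_zero_coe]
    exact Subgroup.mem_sup_left (Subgroup.mem_zpowers _))), rfl⟩
  have hw3 : orderOf w = 3 := by
    haveI : Fact (Nat.Prime 3) := ⟨Nat.prime_three⟩
    refine orderOf_eq_prime ?_ fun h => ?_
    · rw [hw, ← map_pow, show genCH 0 ^ 3 = 1 from Subtype.ext (Subtype.ext (by
        simp only [SubmonoidClass.coe_pow, OneMemClass.coe_one]
        show ((gen 0 : cen) : Co0) ^ 3 = 1
        rw [gen_zero_coe, pow_succ, sq, om0_cube])), map_one]
    · have h4 := congrArg (fun x : phiCH.range => Orth.ap (x : Co1Centralizer.OGrp) (Co1Centralizer.toV 1)) h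
      simp only [hw, OneMemClass.coe_one, Orth.ap_one] at h4
      have h5 : Orth.ap (phi (gen 0)) (Co1Centralizer.toV 1) = Co1Centralizer.toV 1 := h4
      rw [ap_gen 0 (by norm_num)] at h5
      exact absurd h5 (by decide +kernel)
  have hKw : Subgroup.zpowers w = K :=
    Subgroup.eq_of_le_of_card_ge (Subgroup.zpowers_le.2 hwK) (by rw [Nat.card_zpowers, hw3]; exact h3)
  have hg' : phiCH.rangeRestrict g ∈ Subgroup.zpowers w := hKw ▸ Subgroup.mem_map_of_mem _ hg
  obtain ⟨i, hi⟩ := Subgroup.mem_zpowers_iff.1 hg'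
  rw [hw, ← map_zpow] at hi
  have hk : ((genCH 0 ^ i)⁻¹ * g : CH).1 ∈ phi.ker := by
    have := congrArg Subtype.val hi
    change phiCH (genCH 0 ^ i) = phiCH g at this
    show (phiCH ((genCH 0 ^ i)⁻¹ * g)) = 1
    rw [map_mul, map_inv, this, inv_mul_cancel]
  have hom : (((genCH 0 ^ i : CH) : cen) : Co0) ∈ AZ := by
    simp only [SubgroupClass.coe_zpow]
    show ((gen 0 : cen) : Co0) ^ i ∈ AZ
    rw [gen_zero_coe]
    exact Subgroup.mem_sup_left (Subgroup.zpow_mem_zpowers _ i)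
  rcases mem_QS_of_ker ((genCH 0 ^ i)⁻¹ * g).2 hk with h | h
  · exact ⟨_, hom, _, h, by simp [mul_assoc]⟩
  · refine ⟨_, mul_mem hom negOne_mem_AZ, _, h, ?_⟩
    have hnn : negOne * negOne = 1 := co0_ext fun v => by
      rw [mul_smul, negOne_smul, negOne_smul, neg_neg, one_smul]
    rw [mul_assoc, ← mul_assoc negOne negOne, hnn, one_mul]
    simp

end Cfsg.Agent.SuzSection
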